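import Groth.Agent.S8872
import Groth.Agent.Lib.FittSheaf.Basic
import Groth.Agent.Lib.FittSheaf.Pullback
import Groth.Agent.Lib.Fitting.Local
import Groth.Agent.Lib.Ref1.Frame
import Groth.Agent.Lib.FinCov.FrameFree
import Groth.Agent.Lib.Euler.Rank

/-!
The stratum where a module of finite type is locally free of given rank.
-/

set_option autoImplicit false
set_option backward.isDefEq.respectTransparency false
universe u

noncomputable section

open CategoryTheory CategoryTheory.Limits AlgebraicGeometry TopologicalSpace Opposite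

namespace GrothLib.RankStratum9

variable {X : Scheme.{u}}

theorem isFT_pullback {T : Scheme.{u}} (f : T ⟶ X) (F : X.Modules) [F.IsQuasicoherent] (hft : CohB1.IsFT F) :
    CohB1.IsFT ((Scheme.Modules.pullback f).obj F) :=
  haveI := FittSheaf.isQuasicoherent_pullback f F
  (QCoh.isFiniteType_iff_moduleFinite _).2 fun _ hV => FittSheaf.moduleFinite_pullback f F hft hV

theorem sheafIdeal_eq_of_rank {G : X.Modules} [G.IsQuasicoherent] (hG : CohB1.IsFT G) {r : ℕ}
    (h : FlatMod.IsFinLocFreeOfRank r G) (k : ℕ) :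
    Fitt.sheafIdeal G k = if r ≤ k then ⊤ else ⊥ := by
  refine Scheme.IdealSheafData.ext (funext fun U => FittSheaf.ideal_eq_of_germ U.2 fun x hx => ?_)
  rw [FittSheaf.map_germ_sheafIdeal hG k U hx]
  obtain ⟨D, e, hxD, he⟩ := FinCov.exists_frame_nhd_of_rank h x
  obtain ⟨b⟩ := Euler.stalk_basis_of_frame he hxD
  rw [Fitting.ideal_of_basis b k]
  split_ifs
  · rw [Scheme.IdealSheafData.ideal_top, Pi.top_apply, Ideal.map_top]
  · rw [Scheme.IdealSheafData.ideal_bot, Pi.bot_apply, Ideal.map_bot]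

theorem stalk_basis_of_ideals {R : Type u} [CommRing R] [IsLocalRing R] {M : Type u} [AddCommGroup M] [Module R M]
    [Module.Finite R M] (r : ℕ) (hlow : ∀ k, k < r → Fitt.ideal R M k = ⊥) (htop : Fitt.ideal R M r = ⊤) :
    Nonempty (Module.Basis (Fin r) R M) := by
  obtain ⟨f, hf, hfree, hrank⟩ := Fitting.free_near_of_ideal_eq r hlow htop (IsLocalRing.maximalIdeal R)
  have hu : IsUnit f := IsLocalRing.notMem_maximalIdeal.1 hf
  have hS : Submonoid.powers f ≤ IsUnit.submonoid R := Submonoid.powers_le.2 hu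
  let σ : R ≃ₐ[R] Localization.Away f := IsLocalization.atUnit R _ f hu
  let L := LocalizedModule.mkLinearMap (Submonoid.powers f) M
  have hL : Function.Bijective L := by
    constructor
    · intro a b hab
      obtain ⟨⟨c, hc⟩, hcab⟩ := (IsLocalizedModule.eq_iff_exists (Submonoid.powers f) L).1 hab
      exact (hS hc).smul_left_cancel.1 hcab
    · intro y
      obtain ⟨⟨m, ⟨c, hc⟩⟩, hy⟩ := IsLocalizedModule.surj (Submonoid.powers f) L y
      refine ⟨((hS hc).unit⁻¹ : Rˣ) • m, ?_⟩
      rw [Units.smul_def, L.map_smul, ← hy]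
      show ((hS hc).unit⁻¹ : Rˣ).1 • (c • y) = y
      rw [smul_smul, IsUnit.val_inv_mul, one_smul]
  let E := LinearEquiv.ofBijective L hL
  haveI : Nontrivial (Localization.Away f) := σ.toEquiv.symm.nontrivial
  haveI : Module.Finite (Localization.Away f) (LocalizedModule (Submonoid.powers f) M) :=
    Module.Finite.of_isLocalizedModule (Submonoid.powers f) L
  let b := (Module.finBasis (Localization.Away f) (LocalizedModule (Submonoid.powers f) M)).reindex (finCongr hrank)
  let bR := b.mapCoeffs σ.toRingEquiv.symm fun c x => by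
    obtain ⟨a, rfl⟩ := σ.surjective c
    rw [show σ.toRingEquiv.symm (σ a) = a from σ.symm_apply_apply a,
      show σ a = algebraMap R (Localization.Away f) a from (σ.commutes a), algebraMap_smul]
  exact ⟨bR.map E.symm⟩

theorem span_eq_top_near {G : X.Modules} [G.IsQuasicoherent] (hG : CohB1.IsFT G) {W : X.Opens} {r : ℕ}
    (e : Fin r → Γ(G, W)) {x : X} (hx : x ∈ W) (hsurj : Function.Surjective (Ref1.stalkComb e x hx)) :
    ∃ (D : X.Opens) (hD : D ≤ W), x ∈ D ∧ ∀ (y : X) (hy : y ∈ D),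
      Function.Surjective (Ref1.stalkComb e y (hD hy)) := by
  classical
  obtain ⟨U, hU, hxU, hUW⟩ := Opens.isBasis_iff_nbhd.1 X.isBasis_affineOpens hx
  haveI := QCoh.moduleFinite_of_isFiniteType G hG hU
  obtain ⟨s, hs⟩ := Module.Finite.fg_top (R := Γ(X, U)) (M := Γ(G, U))
  have hloc : ∀ m : Γ(G, U), ∃ (T : X.Opens) (hT : T ≤ U), x ∈ T ∧ ∀ (y : X) (hy : y ∈ T),
      G.presheaf.germ U y (hT hy) m ∈ LinearMap.range (Ref1.stalkComb e y (hUW (hT hy))) := fun m => by
    obtain ⟨a, ha⟩ := hsurj (G.presheaf.germ U x hxU m)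
    obtain ⟨T₀, hT₀, hxT₀, c, hc⟩ := Ref1.exists_repr_nhd hxU a
    have e1 : G.presheaf.germ T₀ x hxT₀ (G.presheaf.map (homOfLE hT₀).op m) =
        G.presheaf.germ T₀ x hxT₀ (∑ i, c i • G.presheaf.map (homOfLE (hT₀.trans hUW)).op (e i)) := by
      rw [Ref1.germ_comb, TopCat.Presheaf.germ_res_apply, ← ha]
      exact congrArg _ (funext hc).symm
    obtain ⟨T, hxT, i, i', heq⟩ := TopCat.Presheaf.germ_eq G.presheaf x hxT₀ hxT₀ _ _ e1
    refine ⟨T, i.le.trans hT₀, hxT, fun y hy => ⟨fun j => X.presheaf.germ T₀ y (i.le hy) (c j), ?_⟩⟩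
    have h2 := congrArg (G.presheaf.germ T y hy) heq
    rw [TopCat.Presheaf.germ_res_apply, TopCat.Presheaf.germ_res_apply, TopCat.Presheaf.germ_res_apply,
      Ref1.germ_comb] at h2
    exact h2.symm
  choose T hT hxT hmem using hloc
  let D : X.Opens := ⟨(⋂ m ∈ s, (T m : Set X)) ∩ U,
    (isOpen_biInter_finset fun m _ => (T m).isOpen).inter U.isOpen⟩
  refine ⟨D, fun y hy => hUW hy.2, ⟨Set.mem_iInter₂.2 fun m _ => hxT m, hxU⟩, fun y hy v => ?_⟩
  have hgerm : ∀ m : Γ(G, U), G.presheaf.germ U y hy.2 m ∈ LinearMap.range (Ref1.stalkComb e y (hUW hy.2)) := by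
    intro m
    have hm : m ∈ Submodule.span Γ(X, U) (s : Set Γ(G, U)) := hs ▸ trivial
    induction hm using Submodule.span_induction with
    | mem z hz => exact hmem z y (Set.mem_iInter₂.1 hy.1 z hz)
    | zero => rw [map_zero]; exact zero_mem _
    | add a b _ _ ha hb => rw [map_add]; exact add_mem ha hb
    | smul c z _ hz => rw [Mero.germ_smul]; exact Submodule.smul_mem _ _ hz
  obtain ⟨c, z, hc, hz⟩ := WeakAss.exists_smul_eq_germ hU hy.2 v
  have hu : IsUnit (X.presheaf.germ U y hy.2 c) :=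
    (Scheme.mem_basicOpen _ c y hy.2).mp (WeakAss.notMem_primeAt_iff.mp hc)
  rw [show v = ((hu.unit⁻¹ : _ˣ) : X.presheaf.stalk y) • G.presheaf.germ U y hy.2 z from by
    rw [← hz, smul_smul, IsUnit.val_inv_mul, one_smul]]
  exact Submodule.smul_mem _ _ (hgerm z)

theorem isFinLocFreeOfRank_iff {G : X.Modules} [G.IsQuasicoherent] (hG : CohB1.IsFT G) (r : ℕ) :
    FlatMod.IsFinLocFreeOfRank r G ↔
      (∀ k, k < r → Fitt.sheafIdeal G k = ⊥) ∧ Fitt.sheafIdeal G r = ⊤ := by
  refine ⟨fun h => ⟨fun k hk => by rw [sheafIdeal_eq_of_rank hG h, if_neg (by omega)],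
    by rw [sheafIdeal_eq_of_rank hG h, if_pos le_rfl]⟩, fun ⟨hlow, htop⟩ x => ?_⟩
  have hb : ∀ y : X, Nonempty (Module.Basis (Fin r) (X.presheaf.stalk y) (G.presheaf.stalk y)) := fun y => by
    obtain ⟨U, hU, hyU, -⟩ := Opens.isBasis_iff_nbhd.1 X.isBasis_affineOpens (Opens.mem_top y)
    haveI := FittSheaf.finite_stalk hG y
    refine stalk_basis_of_ideals r (fun k hk => ?_) ?_
    · rw [← FittSheaf.map_germ_sheafIdeal hG k ⟨U, hU⟩ hyU, hlow k hk, Scheme.IdealSheafData.ideal_bot,
        Pi.bot_apply, Ideal.map_bot]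
    · rw [← FittSheaf.map_germ_sheafIdeal hG r ⟨U, hU⟩ hyU, htop, Scheme.IdealSheafData.ideal_top,
        Pi.top_apply, Ideal.map_top]
  obtain ⟨b⟩ := hb x
  choose W hW s hs using fun i => TopCat.Presheaf.exists_germ_eq G.presheaf (b i)
  let W₀ : X.Opens := ⟨⋂ i, (W i : Set X), isOpen_iInter_of_finite fun i => (W i).isOpen⟩
  have hxW : x ∈ W₀ := Set.mem_iInter.2 hW
  let e : Fin r → Γ(G, W₀) := fun i =>
    G.presheaf.map (homOfLE (fun z hz => Set.mem_iInter.1 hz i : W₀ ≤ W i)).op (s i)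
  have hsurj : Function.Surjective (Ref1.stalkComb e x hxW) := fun v => by
    refine ⟨fun i => b.repr v i, ?_⟩
    rw [Ref1.stalkComb, Fintype.linearCombination_apply]
    refine (Finset.sum_congr rfl fun i _ => ?_).trans (b.sum_repr v)
    rw [TopCat.Presheaf.germ_res_apply, hs]
  obtain ⟨D, hD, hxD, hDs⟩ := span_eq_top_near hG e hxW hsurj
  let e' : Fin r → Γ(G, D) := fun i => G.presheaf.map (homOfLE hD).op (e i)
  have he' : FinCov.IsFrame G D e' := by
    refine Ref1.isFrame_of_stalk fun y hy => ?_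
    have hs' : Function.Surjective (Ref1.stalkComb e' y hy) := by
      rw [show Ref1.stalkComb e' y hy = Ref1.stalkComb e y (hD hy) from
        congrArg (Fintype.linearCombination (X.presheaf.stalk y))
          (funext fun i => TopCat.Presheaf.germ_res_apply G.presheaf _ _ _ _)]
      exact hDs y hy
    refine ⟨?_, hs'⟩
    obtain ⟨by'⟩ := hb y
    have hinj := OrzechProperty.injective_of_surjective_endomorphism
      (by'.equivFun.toLinearMap.comp (Ref1.stalkComb e' y hy)) (by'.equivFun.surjective.comp hs')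
    exact fun a c hac => hinj (congrArg by'.equivFun hac)
  obtain ⟨φ⟩ := FinCov.exists_iso_of_frame he'
  exact ⟨D, hxD, ⟨φ⟩⟩

theorem exists_stratum (F : X.Modules) [F.IsQuasicoherent] (hF : CohB1.IsFT F) (r : ℕ) :
    ∃ (Z : Scheme.{u}) (i : Z ⟶ X), IsImmersion i ∧ ∀ (T : Scheme.{u}) (f : T ⟶ X),
      (∃ g : T ⟶ Z, g ≫ i = f) ↔ FlatMod.IsFinLocFreeOfRank r ((Scheme.Modules.pullback f).obj F) := by
  let A : X.IdealSheafData := if r = 0 then ⊥ else Fitt.sheafIdeal F (r - 1)
  let B := Fitt.sheafIdeal F r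
  let U : X.Opens := ⟨(B.support : Set X)ᶜ, B.support.isClosed.isOpen_compl⟩
  let K := A.comap U.ι
  refine ⟨K.subscheme, K.subschemeι ≫ U.ι, inferInstance, fun T f => ?_⟩
  haveI := FittSheaf.isQuasicoherent_pullback f F
  rw [isFinLocFreeOfRank_iff (isFT_pullback f F hF)]
  simp only [← Groth.Agent.S8872.result f F ‹F.IsQuasicoherent› hF]
  have hB : B.comap f = ⊤ ↔ Set.range f ⊆ (U : Set X) := by
    rw [← Scheme.IdealSheafData.support_eq_bot_iff, Scheme.IdealSheafData.support_comap,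
      ← SetLike.coe_set_eq]
    show f ⁻¹' (B.support : Set X) = ∅ ↔ _
    rw [Set.preimage_eq_empty_iff, Set.disjoint_iff_inter_eq_empty]
    constructor
    · intro h z hz hzB
      exact (Set.eq_empty_iff_forall_notMem.1 h z) ⟨hzB, hz⟩
    · intro h
      exact Set.eq_empty_iff_forall_notMem.2 fun z hz => h hz.2 hz.1
  have hA : (∀ k, k < r → (Fitt.sheafIdeal F k).comap f = ⊥) ↔ A.comap f = ⊥ := by
    constructor
    · intro h
      by_cases hr : r = 0
      · simp [A, hr]
      · simpa [A, hr] using h (r - 1) (by omega)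
    · intro h k hk
      have hA' : A = Fitt.sheafIdeal F (r - 1) := if_neg (by omega)
      refine le_bot_iff.1 (le_trans (Scheme.IdealSheafData.comap_mono (f := f) ?_) h.le)
      rw [hA']
      intro V
      haveI := FittSheaf.finite_sections hF V
      rw [FittSheaf.sheafIdeal_ideal hF, FittSheaf.sheafIdeal_ideal hF]
      exact Fitting.ideal_mono (by omega)
  rw [hA, hB]
  constructor
  · rintro ⟨g, rfl⟩
    refine ⟨?_, ?_⟩
    · rw [Scheme.IdealSheafData.comap_comp, Scheme.IdealSheafData.comap_comp]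
      have hK : K.comap K.subschemeι = ⊥ := by
        rw [← le_bot_iff, ← Scheme.IdealSheafData.le_map_iff_comap_le, Scheme.IdealSheafData.map_bot,
          Scheme.IdealSheafData.ker_subschemeι]
      rw [show A.comap U.ι = K from rfl, hK, Scheme.IdealSheafData.comap_bot]
    · rintro _ ⟨t, rfl⟩
      exact ((g ≫ K.subschemeι) t).2
  · rintro ⟨hA', hr'⟩
    let g₀ : T ⟶ U := IsOpenImmersion.lift U.ι f (by rwa [Scheme.Opens.range_ι])
    have hg₀ : g₀ ≫ U.ι = f := IsOpenImmersion.lift_fac _ _ _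
    have hle : K ≤ g₀.ker := by
      rw [← Scheme.IdealSheafData.map_bot, Scheme.IdealSheafData.le_map_iff_comap_le,
        show K.comap g₀ = (A.comap U.ι).comap g₀ from rfl, ← Scheme.IdealSheafData.comap_comp, hg₀, hA']
    refine ⟨g₀.toImage ≫ Scheme.IdealSheafData.inclusion hle, ?_⟩
    rw [Category.assoc, ← Category.assoc (Scheme.IdealSheafData.inclusion hle),
      Scheme.IdealSheafData.inclusion_subschemeι]
    refine Eq.trans ?_ hg₀
    rw [← Category.assoc]
    exact congrArg (· ≫ U.ι) g₀.toImage_imageι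

end GrothLib.RankStratum9
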